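import Cfsg.Agent.SpWeil.Split
import Cfsg.Agent.MinDeg.SpOdd

/-!
The Weil representation of `Sp_2n(q)`, `q` odd, on odd functions, and its irreducibility.
-/

namespace Cfsg.Agent.SpWeil

open Matrix Cfsg.Agent.MinDeg Cfsg.Agent.WordLaws

variable {F : Type*} [Field F] [Fintype F] [DecidableEq F] {n : ℕ}

theorem sp_preserves (g : Matrix.symplecticGroup (Fin n) F) (u v : Fin n ⊕ Fin n → F) :
    Cfsg.sympForm n F (g.1 *ᵥ u) (g.1 *ᵥ v) = Cfsg.sympForm n F u v :=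
  Forms.mem_symplecticGroup_iff_sympForm.1 g.2 u v

/-- the diagonal intertwiner of a Siegel element -/
def siegelOp (ψ : AddChar F ℂ) (M : Matrix (Fin n) (Fin n) F) :
    Matrix (Fin n → F) (Fin n → F) ℂ :=
  Matrix.diagonal fun x => ψ (-(x ⬝ᵥ M *ᵥ x))

theorem inter_siegelOp (h2 : (2 : F) ≠ 0) (ψ : AddChar F ℂ) (M : Matrix (Fin n) (Fin n) F) :
    Inter ψ (fun v => (siegel M).1 *ᵥ v) (siegelOp ψ M) := by
  intro v
  have el : ((siegel M).1 *ᵥ v) ∘ Sum.inl = v ∘ Sum.inl + (M + Mᵀ) *ᵥ (v ∘ Sum.inr) := by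
    change (fromBlocks 1 (M + Mᵀ) 0 1 *ᵥ v) ∘ Sum.inl = _
    rw [fromBlocks_mulVec]; simp
  have er : ((siegel M).1 *ᵥ v) ∘ Sum.inr = v ∘ Sum.inr := by
    change (fromBlocks 1 (M + Mᵀ) 0 1 *ᵥ v) ∘ Sum.inr = _
    rw [fromBlocks_mulVec]; simp
  ext x y
  rw [siegelOp, Matrix.diagonal_mul, Matrix.mul_diagonal, weyl_apply, weyl_apply, el, er]
  by_cases hy : y = x + v ∘ Sum.inr
  · rw [if_pos hy, if_pos hy, hy, ← AddChar.map_add_eq_mul, ← AddChar.map_add_eq_mul]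
    congr 1
    generalize v ∘ Sum.inl = u
    generalize v ∘ Sum.inr = w
    have t : ∀ a b : Fin n → F, a ⬝ᵥ Mᵀ *ᵥ b = b ⬝ᵥ M *ᵥ a := fun a b => by
      rw [Matrix.dotProduct_transpose_mulVec]
    simp only [add_dotProduct, dotProduct_add, Matrix.mulVec_add, Matrix.add_mulVec,
      dotProduct_comm _ x, dotProduct_comm (M *ᵥ w) w, dotProduct_comm (Mᵀ *ᵥ w) w, t]
    field_simp
    ring
  · rw [if_neg hy, if_neg hy, mul_zero, zero_mul]

/-- the permutation intertwiner of a Levi element -/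
def leviOp (g : SpecialLinearGroup (Fin n) F) : Matrix (Fin n → F) (Fin n → F) ℂ :=
  Matrix.of fun x y => if y = g.1ᵀ *ᵥ x then 1 else 0

theorem inter_leviOp (ψ : AddChar F ℂ) (g : SpecialLinearGroup (Fin n) F) :
    Inter ψ (fun v => (leviSp n g).1 *ᵥ v) (leviOp g) := by
  intro v
  set u := v ∘ Sum.inl with hu
  set w := v ∘ Sum.inr with hw
  have el : ((leviSp n g).1 *ᵥ v) ∘ Sum.inl = g.1 *ᵥ u := by
    change (fromBlocks g.1 0 0 (g⁻¹).1ᵀ *ᵥ v) ∘ Sum.inl = _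
    rw [fromBlocks_mulVec]; simp [u]
  have er : ((leviSp n g).1 *ᵥ v) ∘ Sum.inr = (g⁻¹).1ᵀ *ᵥ w := by
    change (fromBlocks g.1 0 0 (g⁻¹).1ᵀ *ᵥ v) ∘ Sum.inr = _
    rw [fromBlocks_mulVec]; simp [w]
  have hgg : g.1ᵀ * (g⁻¹).1ᵀ = 1 := by
    rw [← Matrix.transpose_mul, coe_inv_mul_coe, Matrix.transpose_one]
  ext x y
  rw [Matrix.mul_apply, Matrix.mul_apply, Finset.sum_eq_single (g.1ᵀ *ᵥ x),
    Finset.sum_eq_single (x + (g⁻¹).1ᵀ *ᵥ w)]
  · rw [weyl_apply, weyl_apply, el, er]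
    simp only [leviOp, Matrix.of_apply, if_true, one_mul, Matrix.mulVec_add, Matrix.mulVec_mulVec,
      hgg, Matrix.one_mulVec]
    rw [← hu, ← hw]
    by_cases hy : y = g.1ᵀ *ᵥ x + w
    · rw [if_pos hy, if_pos hy, mul_one]
      congr 1
      have e1 : ∀ a b : Fin n → F, a ⬝ᵥ g.1ᵀ *ᵥ b = g.1 *ᵥ a ⬝ᵥ b := fun a b => by
        rw [Matrix.dotProduct_mulVec, Matrix.vecMul_transpose]
      have e2 : g.1 *ᵥ u ⬝ᵥ (g⁻¹).1ᵀ *ᵥ w = u ⬝ᵥ w := by
        rw [← e1, Matrix.mulVec_mulVec, hgg, Matrix.one_mulVec]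
      rw [e1, e2]
    · rw [if_neg hy, if_neg hy, mul_zero]
  · intro z _ hz
    rw [weyl_apply, er, if_neg hz, zero_mul]
  · exact fun h => absurd (Finset.mem_univ _) h
  · intro z _ hz
    simp only [leviOp, Matrix.of_apply]
    rw [if_neg hz, zero_mul]
  · exact fun h => absurd (Finset.mem_univ _) h

theorem leviOp_mulVec (g : SpecialLinearGroup (Fin n) F) (f : (Fin n → F) → ℂ) (x : Fin n → F) :
    (leviOp g *ᵥ f) x = f (g.1ᵀ *ᵥ x) := by
  simp [leviOp, Matrix.mulVec, dotProduct]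

variable {ψ : AddChar F ℂ}

/-- a chosen intertwiner -/
noncomputable def interOf (h2 : (2 : F) ≠ 0) (hψ : ψ.IsPrimitive)
    (g : Matrix.symplecticGroup (Fin n) F) : Matrix (Fin n → F) (Fin n → F) ℂ :=
  (exists_inter h2 hψ (fun v => g.1 *ᵥ v) (fun u v => Matrix.mulVec_add _ u v)
    (sp_preserves g)).choose

theorem interOf_spec (h2 : (2 : F) ≠ 0) (hψ : ψ.IsPrimitive)
    (g : Matrix.symplecticGroup (Fin n) F) :
    Inter ψ (fun v => g.1 *ᵥ v) (interOf h2 hψ g) ∧ IsUnit (interOf h2 hψ g) :=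
  (exists_inter h2 hψ (fun v => g.1 *ᵥ v) (fun u v => Matrix.mulVec_add _ u v)
    (sp_preserves g)).choose_spec

theorem sp_mulVec_surjective (g : Matrix.symplecticGroup (Fin n) F) :
    Function.Surjective fun v => g.1 *ᵥ v := fun w =>
  ⟨(g⁻¹).1 *ᵥ w, by
    change g.1 *ᵥ ((g⁻¹).1 *ᵥ w) = w
    rw [Matrix.mulVec_mulVec]
    change (g * g⁻¹).1 *ᵥ w = w
    rw [mul_inv_cancel]
    exact Matrix.one_mulVec w⟩

theorem interOf_comm (h2 : (2 : F) ≠ 0) (hψ : ψ.IsPrimitive)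
    (g : Matrix.symplecticGroup (Fin n) F) :
    interOf h2 hψ g * parity F n = parity F n * interOf h2 hψ g :=
  parity_comm h2 hψ (sp_mulVec_surjective g) (fun v => Matrix.mulVec_neg v _)
    (interOf_spec h2 hψ g).1 (interOf_spec h2 hψ g).2

variable {N : ℕ} (H : Half F n N)

theorem interOf_smul (h2 : (2 : F) ≠ 0) (hψ : ψ.IsPrimitive) (g : Matrix.symplecticGroup (Fin n) F)
    (D : Matrix (Fin n → F) (Fin n → F) ℂ) (hD : Inter ψ (fun v => g.1 *ᵥ v) D) (hDu : IsUnit D) :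
    ∃ c : ℂ, c ≠ 0 ∧ interOf h2 hψ g = c • D := by
  obtain ⟨c, hc⟩ := Inter.eq_smul hψ hD hDu (interOf_spec h2 hψ g).1
  refine ⟨c, ?_, hc⟩
  rintro rfl
  have := (interOf_spec h2 hψ g).2
  rw [hc, zero_smul] at this
  exact not_isUnit_zero this

/-- the Weil representation -/
noncomputable def weil (h2 : (2 : F) ≠ 0) (hψ : ψ.IsPrimitive) :
    Matrix.symplecticGroup (Fin n) F →* Matrix (Fin n → F) (Fin n → F) ℂ where
  toFun g := H.norm (interOf h2 hψ g)
  map_one' := by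
    obtain ⟨c, hc, he⟩ := interOf_smul h2 hψ (1 : Matrix.symplecticGroup (Fin n) F) 1
      (fun v => by
        change _ = weyl ψ ((1 : Matrix (Fin n ⊕ Fin n) (Fin n ⊕ Fin n) F) *ᵥ v) * 1
        rw [Matrix.one_mulVec, Matrix.one_mul, Matrix.mul_one]) isUnit_one
    rw [he, H.norm_smul hc, H.norm_one]
  map_mul' g g' := by
    obtain ⟨c, hc, he⟩ := interOf_smul h2 hψ (g * g') (interOf h2 hψ g * interOf h2 hψ g')
      (fun v => by
        rw [Inter.mul (interOf_spec h2 hψ g).1 (interOf_spec h2 hψ g').1 v]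
        simp only [Function.comp_apply, Matrix.mulVec_mulVec]
        rfl)
      ((interOf_spec h2 hψ g).2.mul (interOf_spec h2 hψ g').2)
    rw [he, H.norm_smul hc, H.norm_mul h2 _ _ (interOf_comm h2 hψ g')]

theorem weil_apply (h2 : (2 : F) ≠ 0) (hψ : ψ.IsPrimitive) (g : Matrix.symplecticGroup (Fin n) F)
    (D : Matrix (Fin n → F) (Fin n → F) ℂ) (hD : Inter ψ (fun v => g.1 *ᵥ v) D) (hDu : IsUnit D) :
    ∃ c : ℂ, c ≠ 0 ∧ weil H h2 hψ g = c • D := by
  obtain ⟨c, hc, he⟩ := interOf_smul h2 hψ g D hD hDu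
  obtain ⟨ho, hev⟩ := H.det_ne_zero h2 (interOf_spec h2 hψ g).2 (interOf_comm h2 hψ g)
  refine ⟨_, mul_ne_zero (div_ne_zero ho hev) hc, ?_⟩
  change H.norm (interOf h2 hψ g) = _
  rw [Half.norm, he, smul_smul]

theorem weil_comm (h2 : (2 : F) ≠ 0) (hψ : ψ.IsPrimitive) (g : Matrix.symplecticGroup (Fin n) F) :
    weil H h2 hψ g * parity F n = parity F n * weil H h2 hψ g := by
  change H.norm _ * _ = _ * H.norm _
  rw [Half.norm, Matrix.smul_mul, Matrix.mul_smul, interOf_comm]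

/-- its block on odd functions -/
noncomputable def weilOdd (h2 : (2 : F) ≠ 0) (hψ : ψ.IsPrimitive) :
    Representation ℂ (Matrix.symplecticGroup (Fin n) F) (Fin N → ℂ) where
  toFun g := Matrix.toLinAlgEquiv' (H.oddPart (weil H h2 hψ g))
  map_one' := by rw [map_one, H.oddPart_one, map_one]
  map_mul' g g' := by rw [map_mul, H.oddPart_mul h2 _ _ (weil_comm H h2 hψ g'), map_mul]

theorem weilOdd_fixed (h2 : (2 : F) ≠ 0) (hψ : ψ.IsPrimitive) (g : Matrix.symplecticGroup (Fin n) F)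
    (f : Fin N → ℂ) (hf : weilOdd H h2 hψ g f = f) :
    weil H h2 hψ g *ᵥ (H.oddIncl *ᵥ f) = H.oddIncl *ᵥ f := by
  have h : parity F n * (weil H h2 hψ g * H.oddIncl) = -(weil H h2 hψ g * H.oddIncl) := by
    rw [← Matrix.mul_assoc, ← weil_comm, Matrix.mul_assoc, H.neg_oddIncl h2, Matrix.mul_neg]
  have hf' : H.oddPart (weil H h2 hψ g) *ᵥ f = f := hf
  rw [Matrix.mulVec_mulVec, ← H.incl_restrict_odd _ h, ← Matrix.mulVec_mulVec]
  change H.oddIncl *ᵥ (H.oddPart (weil H h2 hψ g) *ᵥ f) = _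
  rw [hf']

theorem weilOdd_irreducible (h2 : (2 : F) ≠ 0) (hψ : ψ.IsPrimitive) (hn : 2 ≤ n)
    (hodd : Odd (Fintype.card F)) (hN : N = (Fintype.card F ^ n - 1) / 2) :
    (weilOdd H h2 hψ).IsIrreducible := by
  have hN0 : 0 < N := by
    have h1 := Fintype.one_lt_card (α := F)
    have : 3 ≤ Fintype.card F ^ n := by
      calc 3 ≤ 2 ^ 2 := by norm_num
        _ ≤ Fintype.card F ^ 2 := Nat.pow_le_pow_left h1 2
        _ ≤ _ := Nat.pow_le_pow_right (by omega) hn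
    omega
  have : Nontrivial (Subrepresentation (weilOdd H h2 hψ)) := by
    refine ⟨⟨⊥, ⊤, fun h => ?_⟩⟩
    have h' : (⊥ : Submodule ℂ (Fin N → ℂ)) = ⊤ := congrArg Subrepresentation.toSubmodule h
    have := congrArg (fun S : Submodule ℂ (Fin N → ℂ) => Module.finrank ℂ S) h'
    simp at this
    omega
  refine ⟨fun Q => ?_⟩
  by_contra hQ
  push Not at hQ
  obtain ⟨hbot, htop⟩ := hQ
  have hbot' : Q.toSubmodule ≠ ⊥ := fun h => hbot (Subrepresentation.toSubmodule_injective h)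
  have htop' : Q.toSubmodule ≠ ⊤ := fun h => htop (Subrepresentation.toSubmodule_injective h)
  have hlt : Module.finrank ℂ Q.toSubmodule < N := by
    have := Submodule.finrank_lt htop'
    rwa [Module.finrank_fin_fun] at this
  let R : Matrix.symplecticGroup (Fin n) F →* Module.End ℂ Q.toSubmodule :=
    { toFun := fun g => (weilOdd H h2 hψ g).restrict (Q.apply_mem_toSubmodule g)
      map_one' := LinearMap.ext fun v => Subtype.ext (by simp)
      map_mul' := fun a b => LinearMap.ext fun v => Subtype.ext (by simp) }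
  have hS : ∀ M, R (siegel M) = 1 := fun M => by
    by_contra hne
    have := sp_siegel_bound hodd hn R M hne
    omega
  have hall := sp_trivial_of_siegel (by omega) h2 R hS
  obtain ⟨f, hfQ, hf0⟩ := (Submodule.ne_bot_iff _).1 hbot'
  have hfix : ∀ g, weilOdd H h2 hψ g f = f := fun g =>
    congrArg Subtype.val (LinearMap.congr_fun (hall g) ⟨f, hfQ⟩)
  set E := H.oddIncl *ᵥ f with hE
  -- the support of the odd extension is everything but the origin
  obtain ⟨i, hi⟩ := Function.ne_iff.1 hf0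
  have hEi : E (H.pt i) ≠ 0 := by
    have : E (H.pt i) = f i := by
      simp [E, Matrix.mulVec, dotProduct, H.oddIncl_pt]
    rwa [this]
  have hlevi : ∀ (g : SpecialLinearGroup (Fin n) F) x, E x ≠ 0 → E (g.1ᵀ *ᵥ x) ≠ 0 := by
    intro g x hx h0
    have hu : IsUnit (leviOp (F := F) g) := (inter_leviOp ψ g).isUnit hψ fun h => by
      have := congrFun (congrFun h 0) 0
      simp [leviOp] at this
    obtain ⟨c, hc, he⟩ := weil_apply H h2 hψ (leviSp n g) (leviOp g) (inter_leviOp ψ g) hu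
    have := congrFun (weilOdd_fixed H h2 hψ (leviSp n g) f (hfix _)) x
    rw [he, Matrix.smul_mulVec, Pi.smul_apply, leviOp_mulVec, ← hE, h0, smul_zero] at this
    exact hx this.symm
  have hsupp : ∀ y, y ≠ 0 → E y ≠ 0 := by
    intro y hy
    obtain ⟨a, ha⟩ := Weights.exists_sl_apply_single (F := F) hn (H.pt i) (H.pt_ne_zero i)
    obtain ⟨b, hb⟩ := Weights.exists_sl_apply_single (F := F) hn y hy
    have := hlevi ⟨(b * a⁻¹).1ᵀ, by rw [Matrix.det_transpose]; exact (b * a⁻¹).2⟩ _ hEi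
    rwa [show ((⟨(b * a⁻¹).1ᵀ, _⟩ : SpecialLinearGroup (Fin n) F)).1ᵀ *ᵥ H.pt i = y from by
      change (b.1 * (a⁻¹).1)ᵀᵀ *ᵥ H.pt i = y
      rw [Matrix.transpose_transpose, ← ha, Matrix.mulVec_mulVec, Matrix.mul_assoc, coe_inv_mul_coe,
        Matrix.mul_one, hb]] at this
  let e0 : Fin n → F := Pi.single ⟨0, by omega⟩ 1
  let e1 : Fin n → F := Pi.single ⟨1, by omega⟩ 1
  have hψ1 : ∃ s, ψ s ≠ 1 := by
    by_contra! h
    exact hψ one_ne_zero (DFunLike.ext _ _ fun s => by rw [AddChar.mulShift_apply, h]; rfl)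
  obtain ⟨s, hs⟩ := hψ1
  set M : Matrix (Fin n) (Fin n) F := (-s) • vecMulVec e0 e0 with hM
  have hu : IsUnit (siegelOp ψ M) := by
    rw [siegelOp, Matrix.isUnit_diagonal, Pi.isUnit_iff]
    exact fun x => AddChar.val_isUnit ψ _
  obtain ⟨c, hc, he⟩ := weil_apply H h2 hψ (siegel M) (siegelOp ψ M) (inter_siegelOp h2 ψ M) hu
  have hval : ∀ x, x ≠ 0 → c * ψ (-(x ⬝ᵥ M *ᵥ x)) = 1 := fun x hx => by
    have := congrFun (weilOdd_fixed H h2 hψ (siegel M) f (hfix _)) x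
    rw [he, Matrix.smul_mulVec, Pi.smul_apply, siegelOp, Matrix.mulVec_diagonal, ← hE, smul_eq_mul,
      ← mul_assoc] at this
    exact mul_left_eq_self₀.1 this |>.resolve_right (hsupp x hx)
  have h0 := hval e0 (by simp [e0])
  have h1 := hval e1 (by simp [e1])
  rw [hM] at h0 h1
  simp [e0, e1, Matrix.vecMulVec_apply] at h0 h1
  rw [h1, one_mul] at h0
  exact hs h0

end Cfsg.Agent.SpWeil
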