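import Cfsg.Agent.SpWeil.Weyl

/-!
Parity, and normalisation of the intertwiners by the determinants of their even and odd parts.
-/

namespace Cfsg.Agent.SpWeil

open Matrix

variable {F : Type*} [Field F] [Fintype F] [DecidableEq F] {n : ℕ}

/-- the parity operator -/
def parity (F : Type*) [Field F] [Fintype F] [DecidableEq F] (n : ℕ) :
    Matrix (Fin n → F) (Fin n → F) ℂ :=
  Matrix.of fun x y => if y = -x then 1 else 0

theorem parity_mul_apply {κ : Type*} (M : Matrix (Fin n → F) κ ℂ) (x : Fin n → F) (k : κ) :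
    (parity F n * M) x k = M (-x) k := by
  simp [parity, Matrix.mul_apply]

theorem parity_mul_parity : parity F n * parity F n = 1 := by
  ext x y
  rw [parity_mul_apply]
  simp [parity, Matrix.one_apply, eq_comm]

theorem trace_parity (h2 : (2 : F) ≠ 0) : (parity F n).trace = 1 := by
  rw [Matrix.trace, Finset.sum_eq_single (0 : Fin n → F)]
  · simp [parity]
  · intro x _ hx
    simp only [parity, Matrix.diag_apply, Matrix.of_apply]
    rw [if_neg]
    intro h
    apply hx
    funext i
    have := congrFun h i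
    rw [Pi.neg_apply, eq_neg_iff_add_eq_zero, ← two_mul] at this
    exact (mul_eq_zero.1 this).resolve_left h2
  · exact fun h => absurd (Finset.mem_univ _) h

theorem inter_parity (ψ : AddChar F ℂ) : Inter ψ (fun v : Fin n ⊕ Fin n → F => -v) (parity F n) := by
  intro v
  ext x y
  rw [parity_mul_apply, Matrix.mul_apply, Finset.sum_eq_single (-y)]
  · rw [weyl_apply, weyl_apply,
      show (-v) ∘ Sum.inl = -(v ∘ Sum.inl) from rfl, show (-v) ∘ Sum.inr = -(v ∘ Sum.inr) from rfl]
    simp only [parity, Matrix.of_apply, neg_neg, if_true, mul_one]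
    have e : y = -x + v ∘ Sum.inr ↔ -y = x + -(v ∘ Sum.inr) := by
      constructor <;> intro h
      · rw [h]; abel
      · rw [← neg_neg y, h]; abel
    simp [e, neg_dotProduct, dotProduct_neg]
  · intro z _ hz
    have : parity F n z y = 0 := by
      simp only [parity, Matrix.of_apply]
      rw [if_neg]
      intro h
      exact hz (by rw [h, neg_neg])
    rw [this, mul_zero]
  · exact fun h => absurd (Finset.mem_univ _) h

/-- an intertwiner of an odd automorphism commutes with parity -/
theorem parity_comm (h2 : (2 : F) ≠ 0) {ψ : AddChar F ℂ} (hψ : ψ.IsPrimitive)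
    {g : (Fin n ⊕ Fin n → F) → (Fin n ⊕ Fin n → F)} (hsurj : Function.Surjective g)
    (hneg : ∀ v, g (-v) = -g v) {U : Matrix (Fin n → F) (Fin n → F) ℂ} (h : Inter ψ g U)
    (hU : IsUnit U) : U * parity F n = parity F n * U := by
  obtain ⟨u, rfl⟩ := hU
  set U' : Matrix (Fin n → F) (Fin n → F) ℂ := ↑u⁻¹
  have hP : Inter ψ (fun v : Fin n ⊕ Fin n → F => -v) ((u : Matrix _ _ ℂ) * parity F n * U') := by
    intro w
    obtain ⟨v, rfl⟩ := hsurj w
    have e : U' * weyl ψ (g v) = weyl ψ v * U' := by
      have := congrArg (fun A => U' * A * U') (h v)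
      simp only [U', ← Matrix.mul_assoc, Units.inv_mul, Matrix.one_mul] at this
      simp only [Matrix.mul_assoc, Units.mul_inv, Matrix.mul_one] at this
      exact this.symm
    rw [Matrix.mul_assoc _ U', e, ← Matrix.mul_assoc, Matrix.mul_assoc _ (parity F n),
      inter_parity ψ v, ← Matrix.mul_assoc, h (-v), hneg]
    simp only [Matrix.mul_assoc]
  have hPu : IsUnit (parity F n) := ⟨⟨_, _, parity_mul_parity, parity_mul_parity⟩, rfl⟩
  obtain ⟨c, hc⟩ := Inter.eq_smul hψ (inter_parity ψ) hPu hP
  have htr := congrArg Matrix.trace hc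
  rw [Matrix.trace_mul_cycle, Units.inv_mul, Matrix.one_mul, Matrix.trace_smul, trace_parity h2,
    smul_eq_mul, mul_one] at htr
  rw [← htr, one_smul] at hc
  calc (u : Matrix _ _ ℂ) * parity F n
      = (u : Matrix _ _ ℂ) * parity F n * U' * (u : Matrix _ _ ℂ) := by
        rw [Matrix.mul_assoc _ U', Units.inv_mul, Matrix.mul_one]
    _ = _ := by rw [hc]

/-- a section of `x ↦ ±x` on non-zero vectors -/
structure Half (F : Type*) [Field F] (n N : ℕ) where
  /-- the representatives -/
  pt : Fin N → (Fin n → F)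
  inj : Function.Injective pt
  ne_neg : ∀ i j, pt i ≠ -pt j
  cover : ∀ x, x ≠ 0 → ∃ i, x = pt i ∨ x = -pt i

theorem nonempty_half (h2 : (2 : F) ≠ 0) :
    Nonempty (Half F n ((Fintype.card F ^ n - 1) / 2)) := by
  classical
  let e := Fintype.equivFin (Fin n → F)
  have hne : ∀ x : Fin n → F, x ≠ 0 → x ≠ -x := fun x hx h => hx (funext fun i => by
    have := congrFun h i
    rw [Pi.neg_apply, eq_neg_iff_add_eq_zero, ← two_mul] at this
    exact (mul_eq_zero.1 this).resolve_left h2)
  let T := Finset.univ.filter fun x : Fin n → F => e x < e (-x)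
  have hT : ∀ x, x ∈ T ↔ e x < e (-x) := fun x => by simp [T]
  have hcard : Fintype.card (Fin n → F) = 2 * T.card + 1 := by
    have hu : (Finset.univ : Finset (Fin n → F)) = insert 0 (T ∪ T.image Neg.neg) := by
      ext x
      simp only [Finset.mem_univ, Finset.mem_insert, Finset.mem_union, Finset.mem_image, true_iff]
      rcases eq_or_ne x 0 with h | h
      · exact Or.inl h
      rcases lt_trichotomy (e x) (e (-x)) with h1 | h1 | h1
      · exact Or.inr (Or.inl ((hT x).2 h1))
      · exact absurd (e.injective h1) (hne x h)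
      · exact Or.inr (Or.inr ⟨-x, (hT _).2 (by rwa [neg_neg]), neg_neg x⟩)
    rw [← Finset.card_univ, hu, Finset.card_insert_of_notMem, Finset.card_union_of_disjoint,
      Finset.card_image_of_injective _ neg_injective]
    · ring
    · rw [Finset.disjoint_left]
      intro x hx hx'
      obtain ⟨y, hy, rfl⟩ := Finset.mem_image.1 hx'
      rw [hT] at hx hy
      rw [neg_neg] at hx
      exact lt_irrefl _ (hx.trans hy)
    · simp [hT]
  have hT' : T.card = (Fintype.card F ^ n - 1) / 2 := by
    rw [Fintype.card_fun, Fintype.card_fin] at hcard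
    omega
  let t := T.equivFinOfCardEq hT'
  refine ⟨⟨fun i => (t.symm i).1, fun i j h => t.symm.injective (Subtype.ext h), ?_, ?_⟩⟩
  · intro i j h
    have hi := (hT _).1 (t.symm i).2
    have hj := (hT _).1 (t.symm j).2
    rw [h, neg_neg] at hi
    exact lt_irrefl _ (hi.trans hj)
  · intro x hx
    rcases lt_trichotomy (e x) (e (-x)) with h | h | h
    · exact ⟨t ⟨x, (hT x).2 h⟩, Or.inl (by simp)⟩
    · exact absurd (e.injective h) (hne x hx)
    · exact ⟨t ⟨-x, (hT _).2 (by rwa [neg_neg])⟩, Or.inr (by simp)⟩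

namespace Half

variable {N : ℕ} (H : Half F n N)

theorem pt_ne_zero (i : Fin N) : H.pt i ≠ 0 := fun h => H.ne_neg i i (by rw [h, neg_zero])

/-- extension of a function on representatives to an odd function -/
def oddIncl : Matrix (Fin n → F) (Fin N) ℂ :=
  Matrix.of fun x i => if x = H.pt i then 1 else if x = -H.pt i then -1 else 0

/-- representatives with the origin -/
def ept : Option (Fin N) → (Fin n → F)
  | none => 0
  | some i => H.pt i

/-- extension of a function on representatives to an even function -/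
def evenIncl : Matrix (Fin n → F) (Option (Fin N)) ℂ :=
  Matrix.of fun x o => if x = H.ept o then 1 else if x = -H.ept o then 1 else 0

/-- the block of an operator on odd functions -/
def oddPart (U : Matrix (Fin n → F) (Fin n → F) ℂ) : Matrix (Fin N) (Fin N) ℂ :=
  (U * H.oddIncl).submatrix H.pt id

/-- the block of an operator on even functions -/
def evenPart (U : Matrix (Fin n → F) (Fin n → F) ℂ) : Matrix (Option (Fin N)) (Option (Fin N)) ℂ :=
  (U * H.evenIncl).submatrix H.ept id

theorem oddIncl_pt (i j : Fin N) : H.oddIncl (H.pt i) j = if i = j then 1 else 0 := by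
  simp [oddIncl, H.inj.eq_iff, H.ne_neg i j]

theorem evenIncl_ept (a b : Option (Fin N)) : H.evenIncl (H.ept a) b = if a = b then 1 else 0 := by
  rcases eq_or_ne a b with rfl | hab
  · simp [evenIncl]
  rcases a with _ | i <;> rcases b with _ | j
  · exact absurd rfl hab
  · simp [evenIncl, ept, (H.pt_ne_zero j).symm, H.pt_ne_zero j]
  · simp [evenIncl, ept, H.pt_ne_zero i]
  · have : i ≠ j := fun h => hab (by rw [h])
    simp [evenIncl, ept, H.inj.eq_iff, H.ne_neg i j, this]

theorem oddPart_one : H.oddPart 1 = 1 := by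
  ext i j
  simp [oddPart, H.oddIncl_pt, Matrix.one_apply]

theorem evenPart_one : H.evenPart 1 = 1 := by
  ext i j
  simp [evenPart, H.evenIncl_ept, Matrix.one_apply]

theorem oddPart_smul (c : ℂ) (U : Matrix (Fin n → F) (Fin n → F) ℂ) :
    H.oddPart (c • U) = c • H.oddPart U := by
  rw [oddPart, Matrix.smul_mul]; rfl

theorem evenPart_smul (c : ℂ) (U : Matrix (Fin n → F) (Fin n → F) ℂ) :
    H.evenPart (c • U) = c • H.evenPart U := by
  rw [evenPart, Matrix.smul_mul]; rfl

theorem neg_oddIncl (h2 : (2 : F) ≠ 0) : parity F n * H.oddIncl = -H.oddIncl := by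
  ext x i
  rw [parity_mul_apply, Matrix.neg_apply]
  rcases eq_or_ne x (H.pt i) with rfl | h1
  · simp [oddIncl, (H.ne_neg i i).symm]
  rcases eq_or_ne x (-H.pt i) with rfl | h3
  · simp [oddIncl, (H.ne_neg i i).symm]
  · have a : -x ≠ H.pt i := fun h => h3 (by rw [← h, neg_neg])
    simp [oddIncl, h1, h3, a]

theorem neg_evenIncl : parity F n * H.evenIncl = H.evenIncl := by
  ext x o
  rw [parity_mul_apply]
  rcases eq_or_ne x (H.ept o) with rfl | h1
  · simp [evenIncl]
  rcases eq_or_ne x (-H.ept o) with rfl | h3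
  · simp [evenIncl]
  · have a : -x ≠ H.ept o := fun h => h3 (by rw [← h, neg_neg])
    have b : -x ≠ -H.ept o := fun h => h1 (neg_injective h)
    simp [evenIncl, h1, h3, a, b]

theorem incl_restrict_odd {κ : Type*} (M : Matrix (Fin n → F) κ ℂ) (hM : parity F n * M = -M) :
    H.oddIncl * M.submatrix H.pt id = M := by
  ext x k
  have hneg : ∀ y, M (-y) k = -M y k := fun y => by
    have := congrFun (congrFun hM y) k
    rwa [parity_mul_apply, Matrix.neg_apply] at this
  rw [Matrix.mul_apply]
  rcases eq_or_ne x 0 with rfl | hx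
  · have h0 : M 0 k = 0 := by
      have := hneg 0
      rw [neg_zero] at this
      linear_combination this / 2
    rw [h0]
    refine Finset.sum_eq_zero fun i _ => ?_
    simp [oddIncl, (H.pt_ne_zero i).symm, Ne.symm (neg_ne_zero.2 (H.pt_ne_zero i))]
  obtain ⟨i, rfl | rfl⟩ := H.cover x hx
  · simp [H.oddIncl_pt]
  · rw [Finset.sum_eq_single i]
    · simp [oddIncl, (H.ne_neg i i).symm, hneg]
    · intro j _ hj
      have a : -H.pt i ≠ H.pt j := (H.ne_neg j i).symm
      have b : -H.pt i ≠ -H.pt j := fun h => hj (H.inj (neg_injective h)).symm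
      simp [oddIncl, a, b, hj.symm]
    · exact fun h => absurd (Finset.mem_univ _) h

theorem incl_restrict_even {κ : Type*} (M : Matrix (Fin n → F) κ ℂ) (hM : parity F n * M = M) :
    H.evenIncl * M.submatrix H.ept id = M := by
  ext x k
  have hneg : ∀ y, M (-y) k = M y k := fun y => by
    have := congrFun (congrFun hM y) k
    rwa [parity_mul_apply] at this
  rw [Matrix.mul_apply]
  obtain ⟨o, ho⟩ : ∃ o, x = H.ept o ∨ x = -H.ept o := by
    rcases eq_or_ne x 0 with rfl | hx
    · exact ⟨none, Or.inl rfl⟩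
    · obtain ⟨i, hi⟩ := H.cover x hx
      exact ⟨some i, hi⟩
  have hsym : ∀ y p, H.evenIncl (-y) p = H.evenIncl y p := fun y p => by
    have := congrFun (congrFun H.neg_evenIncl y) p
    rwa [parity_mul_apply] at this
  rcases ho with rfl | rfl
  · simp [H.evenIncl_ept]
  · rw [hneg]
    simp only [hsym]
    simp [H.evenIncl_ept]

theorem oddPart_mul (h2 : (2 : F) ≠ 0) (U V : Matrix (Fin n → F) (Fin n → F) ℂ)
    (hV : V * parity F n = parity F n * V) : H.oddPart (U * V) = H.oddPart U * H.oddPart V := by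
  have h : parity F n * (V * H.oddIncl) = -(V * H.oddIncl) := by
    rw [← Matrix.mul_assoc, ← hV, Matrix.mul_assoc, H.neg_oddIncl h2, Matrix.mul_neg]
  conv_lhs => rw [oddPart, Matrix.mul_assoc, ← H.incl_restrict_odd _ h, ← Matrix.mul_assoc]
  rfl

theorem evenPart_mul (U V : Matrix (Fin n → F) (Fin n → F) ℂ)
    (hV : V * parity F n = parity F n * V) : H.evenPart (U * V) = H.evenPart U * H.evenPart V := by
  have h : parity F n * (V * H.evenIncl) = V * H.evenIncl := by
    rw [← Matrix.mul_assoc, ← hV, Matrix.mul_assoc, H.neg_evenIncl]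
  conv_lhs => rw [evenPart, Matrix.mul_assoc, ← H.incl_restrict_even _ h, ← Matrix.mul_assoc]
  rfl

/-- normalise an operator by the determinants of its two blocks -/
noncomputable def norm (U : Matrix (Fin n → F) (Fin n → F) ℂ) : Matrix (Fin n → F) (Fin n → F) ℂ :=
  ((H.oddPart U).det / (H.evenPart U).det) • U

theorem norm_one : H.norm 1 = 1 := by
  simp [norm, H.oddPart_one, H.evenPart_one]

theorem norm_smul {c : ℂ} (hc : c ≠ 0) (U : Matrix (Fin n → F) (Fin n → F) ℂ) :
    H.norm (c • U) = H.norm U := by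
  rw [norm, norm, H.oddPart_smul, H.evenPart_smul, Matrix.det_smul, Matrix.det_smul,
    Fintype.card_option, smul_smul]
  congr 1
  simp only [Fintype.card_fin, pow_succ]
  field_simp

theorem norm_mul (h2 : (2 : F) ≠ 0) (U V : Matrix (Fin n → F) (Fin n → F) ℂ)
    (hV : V * parity F n = parity F n * V) : H.norm (U * V) = H.norm U * H.norm V := by
  rw [norm, norm, norm, H.oddPart_mul h2 U V hV, H.evenPart_mul U V hV, Matrix.det_mul,
    Matrix.det_mul, Matrix.smul_mul, Matrix.mul_smul, smul_smul, div_mul_div_comm]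

theorem det_ne_zero (h2 : (2 : F) ≠ 0) {U : Matrix (Fin n → F) (Fin n → F) ℂ} (hU : IsUnit U)
    (hc : U * parity F n = parity F n * U) :
    (H.oddPart U).det ≠ 0 ∧ (H.evenPart U).det ≠ 0 := by
  obtain ⟨u, rfl⟩ := hU
  have h1 := congrArg Matrix.det (H.oddPart_mul h2 (↑u⁻¹) u hc)
  have h3 := congrArg Matrix.det (H.evenPart_mul (↑u⁻¹) u hc)
  rw [Units.inv_mul, H.oddPart_one, Matrix.det_one, Matrix.det_mul] at h1
  rw [Units.inv_mul, H.evenPart_one, Matrix.det_one, Matrix.det_mul] at h3
  exact ⟨right_ne_zero_of_mul_eq_one h1.symm, right_ne_zero_of_mul_eq_one h3.symm⟩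

end Half

end Cfsg.Agent.SpWeil
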