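import Mathlib
import Cfsg.Prelude.Def_ClassicalGeometry

/-!
The Weyl operators of the Heisenberg group of `F^(2n)`, `q` odd, and their intertwiners.
-/

namespace Cfsg.Agent.SpWeil

open Matrix

variable {F : Type*} [Field F] [Fintype F] [DecidableEq F] {n : ℕ}

/-- the Weyl operator of a vector: a translation followed by a modulation -/
def weyl (ψ : AddChar F ℂ) (v : Fin n ⊕ Fin n → F) : Matrix (Fin n → F) (Fin n → F) ℂ :=
  Matrix.of fun x y => if y = x + v ∘ Sum.inr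
    then ψ ((v ∘ Sum.inl) ⬝ᵥ x + (v ∘ Sum.inl) ⬝ᵥ (v ∘ Sum.inr) / 2) else 0

theorem weyl_apply (ψ : AddChar F ℂ) (v : Fin n ⊕ Fin n → F) (x y : Fin n → F) :
    weyl ψ v x y = if y = x + v ∘ Sum.inr
      then ψ ((v ∘ Sum.inl) ⬝ᵥ x + (v ∘ Sum.inl) ⬝ᵥ (v ∘ Sum.inr) / 2) else 0 := rfl

theorem sympForm_eq (u v : Fin n ⊕ Fin n → F) :
    Cfsg.sympForm n F u v =
      (u ∘ Sum.inr) ⬝ᵥ (v ∘ Sum.inl) - (u ∘ Sum.inl) ⬝ᵥ (v ∘ Sum.inr) := by
  simp [Cfsg.sympForm, Matrix.J, dotProduct, Matrix.mulVec, Matrix.fromBlocks, Fintype.sum_sum_type,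
    Matrix.one_apply]
  ring

theorem weyl_mul (h2 : (2 : F) ≠ 0) (ψ : AddChar F ℂ) (v v' : Fin n ⊕ Fin n → F) :
    weyl ψ v * weyl ψ v' = ψ (Cfsg.sympForm n F v v' / 2) • weyl ψ (v + v') := by
  ext x y
  have e1 : (v + v') ∘ Sum.inl = v ∘ Sum.inl + v' ∘ Sum.inl := rfl
  have e2 : (v + v') ∘ Sum.inr = v ∘ Sum.inr + v' ∘ Sum.inr := rfl
  rw [Matrix.mul_apply, Finset.sum_eq_single (x + v ∘ Sum.inr)
    (fun z _ hz => by rw [weyl_apply, if_neg hz, zero_mul]) (fun h => absurd (Finset.mem_univ _) h),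
    Matrix.smul_apply, weyl_apply, weyl_apply, weyl_apply, if_pos rfl, e1, e2, sympForm_eq]
  rw [add_assoc x]
  by_cases hy : y = x + (v ∘ Sum.inr + v' ∘ Sum.inr)
  · rw [if_pos hy, if_pos hy, smul_eq_mul, ← AddChar.map_add_eq_mul, ← AddChar.map_add_eq_mul]
    congr 1
    simp only [dotProduct_add, add_dotProduct, dotProduct_comm (v ∘ Sum.inr) (v' ∘ Sum.inl)]
    field_simp
    ring
  · rw [if_neg hy, if_neg hy, mul_zero, smul_zero]

theorem char_dot_injective {ψ : AddChar F ℂ} (hψ : ψ.IsPrimitive) (u u' : Fin n → F)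
    (h : ∀ x, ψ (u ⬝ᵥ x) = ψ (u' ⬝ᵥ x)) : u = u' := by
  funext i
  by_contra hne
  refine hψ (sub_ne_zero.2 hne) (DFunLike.ext _ _ fun s => ?_)
  have hs := h (Pi.single i s)
  rw [dotProduct_single, dotProduct_single] at hs
  rw [AddChar.mulShift_apply, sub_mul, AddChar.map_sub_eq_div, hs,
    div_self (AddChar.val_isUnit ψ _).ne_zero]
  rfl

theorem weyl_linearIndependent {ψ : AddChar F ℂ} (hψ : ψ.IsPrimitive)
    (c : (Fin n ⊕ Fin n → F) → ℂ) (hc : ∑ v, c v • weyl ψ v = 0) : c = 0 := by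
  classical
  funext v₀
  obtain ⟨⟨u₀, w⟩, rfl⟩ := (Equiv.sumArrowEquivProdArrow _ _ F).symm.surjective v₀
  let χ : (Fin n → F) → AddChar (Fin n → F) ℂ := fun u =>
    { toFun := fun x => ψ (u ⬝ᵥ x)
      map_zero_eq_one' := by simp
      map_add_eq_mul' := fun x y => by simp [dotProduct_add, AddChar.map_add_eq_mul] }
  have hli : LinearIndependent ℂ fun u => ((χ u : AddChar (Fin n → F) ℂ) : (Fin n → F) → ℂ) :=
    (AddChar.linearIndependent (Fin n → F) ℂ).comp χ fun u u' h =>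
      char_dot_injective hψ u u' fun x => DFunLike.congr_fun h x
  have key := Fintype.linearIndependent_iff.1 hli
    (fun u => c ((Equiv.sumArrowEquivProdArrow _ _ F).symm (u, w)) * ψ (u ⬝ᵥ w / 2)) ?_ u₀
  · exact (mul_eq_zero.1 key).resolve_right (AddChar.val_isUnit ψ _).ne_zero
  funext x
  have h := congrFun (congrFun hc x) (x + w)
  rw [Matrix.sum_apply, ← (Equiv.sumArrowEquivProdArrow _ _ F).symm.sum_comp,
    Fintype.sum_prod_type, Matrix.zero_apply] at h
  rw [Finset.sum_apply, Pi.zero_apply, ← h]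
  refine Finset.sum_congr rfl fun u _ => ?_
  rw [Finset.sum_eq_single w]
  · simp only [Matrix.smul_apply, weyl_apply, Pi.smul_apply, smul_eq_mul]
    rw [show (Equiv.sumArrowEquivProdArrow _ _ F).symm (u, w) ∘ Sum.inl = u from rfl,
      show (Equiv.sumArrowEquivProdArrow _ _ F).symm (u, w) ∘ Sum.inr = w from rfl, if_pos rfl,
      AddChar.map_add_eq_mul]
    change _ * ψ (u ⬝ᵥ x) = _
    ring
  · intro w' _ hw'
    rw [Matrix.smul_apply, weyl_apply,
      show (Equiv.sumArrowEquivProdArrow _ _ F).symm (u, w') ∘ Sum.inr = w' from rfl,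
      if_neg fun he => hw' (add_left_cancel he).symm, smul_zero]
  · exact fun h => absurd (Finset.mem_univ _) h

theorem weyl_span {ψ : AddChar F ℂ} (hψ : ψ.IsPrimitive)
    (M : Matrix (Fin n → F) (Fin n → F) ℂ) : ∃ c : (Fin n ⊕ Fin n → F) → ℂ, M = ∑ v, c v • weyl ψ v := by
  classical
  let Φ := Fintype.linearCombination ℂ (weyl (n := n) ψ)
  have hΦ : ∀ c, Φ c = ∑ v, c v • weyl ψ v := fun c => Fintype.linearCombination_apply ℂ _ c
  have hinj : Function.Injective Φ := by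
    rw [← LinearMap.ker_eq_bot, LinearMap.ker_eq_bot']
    exact fun c hc => weyl_linearIndependent hψ c (hΦ c ▸ hc)
  have hdim : Module.finrank ℂ ((Fin n ⊕ Fin n → F) → ℂ) =
      Module.finrank ℂ (Matrix (Fin n → F) (Fin n → F) ℂ) := by
    simp [Module.finrank_matrix, pow_add]
  obtain ⟨c, hc⟩ := (LinearMap.injective_iff_surjective_of_finrank_eq_finrank hdim).1 hinj M
  exact ⟨c, by rw [← hc, hΦ]⟩

/-- `U` carries the Weyl operators along `g` -/
def Inter (ψ : AddChar F ℂ) (g : (Fin n ⊕ Fin n → F) → (Fin n ⊕ Fin n → F))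
    (U : Matrix (Fin n → F) (Fin n → F) ℂ) : Prop :=
  ∀ v, U * weyl ψ v = weyl ψ (g v) * U

theorem Inter.smul {ψ : AddChar F ℂ} {g : (Fin n ⊕ Fin n → F) → (Fin n ⊕ Fin n → F)}
    {U : Matrix (Fin n → F) (Fin n → F) ℂ} (h : Inter ψ g U) (c : ℂ) : Inter ψ g (c • U) :=
  fun v => by rw [Matrix.smul_mul, Matrix.mul_smul, h v]

theorem Inter.mul {ψ : AddChar F ℂ} {g g' : (Fin n ⊕ Fin n → F) → (Fin n ⊕ Fin n → F)}
    {U U' : Matrix (Fin n → F) (Fin n → F) ℂ} (h : Inter ψ g U) (h' : Inter ψ g' U') :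
    Inter ψ (g ∘ g') (U * U') :=
  fun v => by rw [Matrix.mul_assoc, h' v, ← Matrix.mul_assoc, h (g' v), Matrix.mul_assoc]; rfl

theorem Inter.one {ψ : AddChar F ℂ} : Inter ψ id (1 : Matrix (Fin n → F) (Fin n → F) ℂ) :=
  fun v => by rw [Matrix.one_mul, Matrix.mul_one]; rfl

theorem Inter.isUnit {ψ : AddChar F ℂ} (hψ : ψ.IsPrimitive)
    {g : (Fin n ⊕ Fin n → F) → (Fin n ⊕ Fin n → F)}
    {U : Matrix (Fin n → F) (Fin n → F) ℂ} (h : Inter ψ g U) (hU : U ≠ 0) : IsUnit U := by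
  classical
  rw [← Matrix.mulVec_injective_iff_isUnit]
  intro a b hab
  by_contra hne
  obtain ⟨i, hi⟩ := Function.ne_iff.1 hne
  have hd : U *ᵥ (a - b) = 0 := by rw [Matrix.mulVec_sub]; exact sub_eq_zero.2 hab
  apply hU
  apply Matrix.ext_of_mulVec_single
  intro j
  obtain ⟨c, hc⟩ := weyl_span hψ
    (vecMulVec (Pi.single j (1 : ℂ)) (Pi.single i ((a - b) i)⁻¹))
  have h1 : (∑ v, c v • weyl ψ v) *ᵥ (a - b) = Pi.single j 1 := by
    rw [← hc, Matrix.vecMulVec_mulVec, single_dotProduct,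
      inv_mul_cancel₀ (show (a - b) i ≠ 0 from sub_ne_zero.2 hi), MulOpposite.op_one, one_smul]
  rw [← h1, Matrix.mulVec_mulVec, Matrix.zero_mulVec, Finset.mul_sum, Matrix.sum_mulVec]
  refine Finset.sum_eq_zero fun v _ => ?_
  rw [Matrix.mul_smul, h v, Matrix.smul_mulVec, ← Matrix.mulVec_mulVec, hd, Matrix.mulVec_zero,
    smul_zero]

theorem scalar_of_commute {ψ : AddChar F ℂ} (hψ : ψ.IsPrimitive)
    (C : Matrix (Fin n → F) (Fin n → F) ℂ) (hC : ∀ v, C * weyl ψ v = weyl ψ v * C) :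
    ∃ c : ℂ, C = c • 1 := by
  classical
  obtain ⟨c, hc⟩ := Matrix.mem_range_scalar_of_commute_single (M := C) fun i j _ => by
    obtain ⟨d, hd⟩ := weyl_span (F := F) (n := n) hψ (single i j 1)
    change single i j 1 * C = C * single i j 1
    rw [hd, Finset.sum_mul, Finset.mul_sum]
    exact Finset.sum_congr rfl fun v _ => by rw [Matrix.smul_mul, Matrix.mul_smul, hC v]
  exact ⟨c, by rw [← hc, Matrix.scalar_apply, Matrix.smul_one_eq_diagonal]⟩

theorem Inter.eq_smul {ψ : AddChar F ℂ} (hψ : ψ.IsPrimitive)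
    {g : (Fin n ⊕ Fin n → F) → (Fin n ⊕ Fin n → F)}
    {U U' : Matrix (Fin n → F) (Fin n → F) ℂ} (h : Inter ψ g U) (hU : IsUnit U)
    (h' : Inter ψ g U') : ∃ c : ℂ, U' = c • U := by
  obtain ⟨u, rfl⟩ := hU
  obtain ⟨c, hc⟩ := scalar_of_commute hψ (((u⁻¹ : (Matrix (Fin n → F) (Fin n → F) ℂ)ˣ) :
      Matrix (Fin n → F) (Fin n → F) ℂ) * U') fun v => by
    rw [Matrix.mul_assoc, h' v]
    have := congrArg (fun A => (((u⁻¹ : (Matrix (Fin n → F) (Fin n → F) ℂ)ˣ) :
      Matrix (Fin n → F) (Fin n → F) ℂ)) * A * ((u⁻¹ : (Matrix (Fin n → F) (Fin n → F) ℂ)ˣ) :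
      Matrix (Fin n → F) (Fin n → F) ℂ)) (h v)
    simp only [← Matrix.mul_assoc, Units.inv_mul, Matrix.one_mul] at this
    simp only [Matrix.mul_assoc, Units.mul_inv, Matrix.mul_one] at this
    rw [← Matrix.mul_assoc, ← Matrix.mul_assoc, ← this]
  refine ⟨c, ?_⟩
  rw [← Matrix.one_mul U', ← Units.mul_inv u, Matrix.mul_assoc, hc, Matrix.mul_smul, Matrix.mul_one]

theorem exists_inter (h2 : (2 : F) ≠ 0) {ψ : AddChar F ℂ} (hψ : ψ.IsPrimitive)
    (g : (Fin n ⊕ Fin n → F) → (Fin n ⊕ Fin n → F)) (hadd : ∀ u v, g (u + v) = g u + g v)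
    (hform : ∀ u v, Cfsg.sympForm n F (g u) (g v) = Cfsg.sympForm n F u v) :
    ∃ U : Matrix (Fin n → F) (Fin n → F) ℂ, Inter ψ g U ∧ IsUnit U := by
  classical
  let U : Matrix (Fin n → F) (Fin n → F) ℂ → Matrix (Fin n → F) (Fin n → F) ℂ := fun A =>
    ∑ v, weyl ψ (g v) * A * weyl ψ (-v)
  have hU : ∀ A, Inter ψ g (U A) := by
    intro A u
    simp only [U]
    rw [Finset.sum_mul, Finset.mul_sum]
    refine (Fintype.sum_equiv (Equiv.addLeft u) _ _ fun v => ?_).symm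
    rw [Equiv.coe_addLeft, ← Matrix.mul_assoc, ← Matrix.mul_assoc, Matrix.mul_assoc _ (weyl ψ _) (weyl ψ u),
      weyl_mul h2, weyl_mul h2, Matrix.mul_smul, Matrix.smul_mul, Matrix.smul_mul, hadd, hform,
      show -(u + v) + u = -v by abel]
    congr 2
    rw [sympForm_eq, sympForm_eq]
    have e : ∀ (a : Fin n ⊕ Fin n → F) (f : Fin n → Fin n ⊕ Fin n), (-a) ∘ f = -(a ∘ f) := fun _ _ => rfl
    have e' : ∀ (a b : Fin n ⊕ Fin n → F) (f : Fin n → Fin n ⊕ Fin n), (a + b) ∘ f = a ∘ f + b ∘ f :=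
      fun _ _ _ => rfl
    simp only [e, e', neg_dotProduct, add_dotProduct]
    rw [dotProduct_comm (u ∘ Sum.inr) (u ∘ Sum.inl), dotProduct_comm (v ∘ Sum.inr) (u ∘ Sum.inl),
      dotProduct_comm (v ∘ Sum.inl) (u ∘ Sum.inr)]
    ring
  by_contra hnot
  push Not at hnot
  have hzero : ∀ A, U A = 0 := fun A => by
    by_contra hne
    exact hnot _ (hU A) ((hU A).isUnit hψ hne)
  have hg : Function.Injective g := fun a b h => by
    have : ∀ w, Cfsg.sympForm n F (a - b) w = 0 := fun w => by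
      rw [← hform, show g (a - b) = g a - g b from eq_sub_of_add_eq (by rw [← hadd, sub_add_cancel]),
        h, sub_self, Cfsg.sympForm, zero_dotProduct]
    funext i
    rcases i with i | i
    · have := this (Pi.single (Sum.inr i) 1)
      rw [sympForm_eq] at this
      simp [dotProduct, Pi.single_apply] at this
      linear_combination -this
    · have := this (Pi.single (Sum.inl i) 1)
      rw [sympForm_eq] at this
      simp [dotProduct, Pi.single_apply] at this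
      linear_combination this
  let gE := Equiv.ofBijective g ⟨hg, Finite.surjective_of_injective hg⟩
  have hz : ∀ v y j, weyl (n := n) ψ (-v) y j = 0 := by
    intro v y j
    have key : ∑ v, weyl ψ (-(gE.symm v)) y j • weyl ψ v = 0 := by
      rw [← gE.sum_comp]
      simp only [Equiv.symm_apply_apply]
      ext i x
      have := congrFun (congrFun (hzero (single x y 1)) i) j
      simp only [U, Matrix.sum_apply, Matrix.mul_assoc, Matrix.zero_apply] at this
      rw [Matrix.sum_apply, Matrix.zero_apply, ← this]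
      refine Finset.sum_congr rfl fun v _ => ?_
      rw [Matrix.mul_apply, Finset.sum_eq_single x]
      · simp [Matrix.single_mul_apply_same, gE]
        exact mul_comm _ _
      · intro z _ hz
        simp [Matrix.single_mul_apply_of_ne, hz]
      · exact fun h => absurd (Finset.mem_univ _) h
    have := congrFun (weyl_linearIndependent hψ _ key) (gE v)
    simpa using this
  have := hz 0 0 0
  simp [weyl_apply] at this

end Cfsg.Agent.SpWeil
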